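-- Two-type amalgam (helper41's NS packages): package EX, a critical index exists (helper1).
import Mathlib
import Cfsg.Agent.Lib.Helper41.NS.Defs

set_option autoImplicit false

namespace Cfsg.Agent.Lib.Helper1.NS

open Cfsg.Agent.Lib.Helper71.Sym Cfsg.Agent.Lib.Helper41.NS

universe u

/-- If no walk is critical, the conjugates of `Z_i` along all walks generate a nontrivial
subgroup of `T` normalized by both `P i`. -/
theorem exists_not_noCrit {G : Type u} [Group G] (P Q : Bool → Subgroup G) (T : Subgroup G)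
    (hA : NSAmal P Q T) (hZF : ∀ i, ZF (P i) T (Q i)) : ∃ n, ¬ NoCrit P Q T n := by
  by_contra hno
  have hall : ∀ n, NoCrit P Q T n := fun n => by_contra fun h => hno ⟨n, h⟩
  let X : Set G :=
    {x | ∃ (i j : Bool) (n : ℕ) (g : G), Wk P i n g j ∧ g * x * g⁻¹ ∈ Zs (P i) T}
  have hXT : Subgroup.closure X ≤ T := by
    rw [Subgroup.closure_le]
    rintro x ⟨i, j, n, g, hw, hx⟩
    have h1 := hall n i j g hw hx
    rw [mem_cj] at h1
    have h2 : g⁻¹ * (g * x * g⁻¹) * g = x := by group
    rw [h2] at h1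
    exact (hA.side j).hQT h1
  have hXn : ∀ i', ∀ p ∈ P i', ∀ x ∈ Subgroup.closure X,
      p * x * p⁻¹ ∈ Subgroup.closure X := by
    intro i' p hp x hx
    induction hx using Subgroup.closure_induction with
    | mem x hx =>
      obtain ⟨i, j, n, g, hw, hxg⟩ := hx
      apply Subgroup.subset_closure
      by_cases hj : i' = j
      · subst hj
        refine ⟨i, !i', n + 1, g * p⁻¹, Wk.step hw (inv_mem hp), ?_⟩
        have : g * p⁻¹ * (p * x * p⁻¹) * (g * p⁻¹)⁻¹ = g * x * g⁻¹ := by group
        rw [this]; exact hxg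
      · have hj' : i' = !j := by cases i' <;> cases j <;> simp_all
        subst hj'
        have h1 : Wk P i (n + 1) (g * 1) (!j) := Wk.step hw (one_mem _)
        have h2 : Wk P i (n + 1 + 1) (g * 1 * p⁻¹) (!!j) := Wk.step h1 (inv_mem hp)
        refine ⟨i, !!j, n + 1 + 1, g * 1 * p⁻¹, h2, ?_⟩
        have : g * 1 * p⁻¹ * (p * x * p⁻¹) * (g * 1 * p⁻¹)⁻¹ = g * x * g⁻¹ := by group
        rw [this]; exact hxg
    | one => simp
    | mul x y _ _ hx hy =>
      have : p * (x * y) * p⁻¹ = (p * x * p⁻¹) * (p * y * p⁻¹) := by group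
      rw [this]; exact mul_mem hx hy
    | inv x _ hx =>
      have : p * x⁻¹ * p⁻¹ = (p * x * p⁻¹)⁻¹ := by group
      rw [this]; exact inv_mem hx
  have hbot := hA.hcore (Subgroup.closure X) hXT hXn
  have hZle : Zs (P false) T ≤ Subgroup.closure X := by
    intro x hx
    apply Subgroup.subset_closure
    exact ⟨false, !false, 0, 1, Wk.base, by simpa using hx⟩
  apply (hZF false).ne_bot
  rw [eq_bot_iff, ← hbot]
  exact hZle

theorem pkgEX : Cfsg.Agent.Lib.Helper41.NS.PkgEX.{u} := by
  intro G _ P Q T hA hZF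
  classical
  have hex := exists_not_noCrit P Q T hA hZF
  refine ⟨Nat.find hex, ?_, ?_⟩
  · have h := Nat.find_spec hex
    by_contra hc
    apply h
    intro i j g hw
    by_contra hn
    exact hc ⟨i, j, g, hw, hn⟩
  · intro m hm
    by_contra h
    exact Nat.find_min hex hm h

end Cfsg.Agent.Lib.Helper1.NS
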